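import Cfsg.Agent.TICent.Basic
import Cfsg.Agent.Coherence.FrobKernel
import Cfsg.Agent.OddLocal.CNStructure
import Cfsg.Agent.Core.FPF
import Mathlib.GroupTheory.NoncommCoprod
import Mathlib.GroupTheory.SpecificGroups.Quaternion

/-!
# Trivial intersection centralisers with a nontrivial abelian normal subgroup: the Frobenius case
-/

set_option autoImplicit false

namespace Cfsg.Agent.TICent

open Subgroup
open scoped IsMulCommutative

/-- A quaternion group of order at least 16 does not have trivial intersection centralisers. -/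
theorem quaternion_le_one {n : ℕ} {Q : Type*} [Group Q] (h : CentTI Q)
    (e : Q ≃* QuaternionGroup (2 ^ n)) : n ≤ 1 := by
  by_contra hn
  push Not at hn
  set N : ℕ := 2 ^ n with hN
  have hN4 : 4 ≤ N := le_trans (by norm_num) (Nat.pow_le_pow_right two_pos hn)
  have : NeZero (2 * N) := ⟨by omega⟩
  set u : Q := e.symm (QuaternionGroup.xa 0)
  set v : Q := e.symm (QuaternionGroup.a (N : ZMod (2 * N)))
  set g : Q := e.symm (QuaternionGroup.a 1)
  have hv1 : v ≠ 1 := by
    intro hv
    have h1 := e.symm.injective (hv.trans (map_one e.symm).symm)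
    rw [QuaternionGroup.one_def, QuaternionGroup.a.injEq, ZMod.natCast_eq_zero_iff] at h1
    have := Nat.le_of_dvd (by omega) h1
    omega
  have hNN : ((N : ZMod (2 * N)) + N) = 0 := by
    rw [← Nat.cast_add, ← two_mul, ZMod.natCast_self]
  have hvu : Commute v u := by
    refine e.injective ?_
    simp only [map_mul, u, v, MulEquiv.apply_symm_apply, QuaternionGroup.a_mul_xa,
      QuaternionGroup.xa_mul_a]
    congr 1
    linear_combination -hNN
  have hgv : Commute g v := by
    refine e.injective ?_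
    simp only [map_mul, g, v, MulEquiv.apply_symm_apply, QuaternionGroup.a_mul_a]
    rw [add_comm]
  have h1 := congrArg e (h.commute_conj hv1 hvu hgv).eq
  simp only [map_mul, map_inv, u, g, MulEquiv.apply_symm_apply] at h1
  have hinv : (QuaternionGroup.a (1 : ZMod (2 * N)))⁻¹ = QuaternionGroup.a (-1) :=
    inv_eq_of_mul_eq_one_right (by rw [QuaternionGroup.a_mul_a, add_neg_cancel, QuaternionGroup.one_def])
  rw [hinv, QuaternionGroup.a_mul_xa, QuaternionGroup.xa_mul_a, QuaternionGroup.xa_mul_xa,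
    QuaternionGroup.xa_mul_xa, QuaternionGroup.a.injEq] at h1
  have h4 : ((4 : ℕ) : ZMod (2 * N)) = 0 := by
    push_cast
    linear_combination h1
  rw [ZMod.natCast_eq_zero_iff] at h4
  have := Nat.le_of_dvd (by norm_num) h4
  omega

variable {G : Type*} [Group G] [Finite G]

/-- The Frobenius case. -/
theorem frobenius_case (h : CentTI G) (hnil : ¬ Group.IsNilpotent G) {A : Subgroup G}
    [hAn : A.Normal] [hAc : IsMulCommutative A] (hA : A ≠ ⊥) :
    ∃ H : Subgroup G, Cfsg.IsFrobeniusComplement H ∧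
      (IsCyclic H ∨
        ∃ m : ℕ, Odd m ∧ Nonempty (H ≃* Multiplicative (ZMod m) × QuaternionGroup 2)) := by
  set N := Cfsg.fittingSubgroup G with hNdef
  have hNn : N.Normal := Core.fittingSubgroup_normal
  have hAN : A ≤ N := Core.le_fittingSubgroup_of_isMulCommutative
  have hNnil : Group.IsNilpotent N := Core.fittingSubgroup_isNilpotent
  have : Nontrivial N := N.nontrivial_iff_ne_bot.2 (ne_bot_of_le_ne_bot hA hAN)
  obtain ⟨w, hw, hw1⟩ := (bot_or_exists_ne_one _).resolve_left (Group.IsNilpotent.center_ne_bot N)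
  have hC : ∀ n ∈ N, n ≠ 1 → centralizer ({n} : Set G) ≤ N := by
    intro n hn hn1
    have hcen : ((center N).map N.subtype).Normal := inferInstance
    have hsub : ∀ y ∈ (center N).map N.subtype, y ∈ centralizer ({n} : Set G) := by
      rintro _ ⟨y, hy, rfl⟩
      exact mem_centralizer_singleton_iff.2
        (congrArg Subtype.val (mem_center_iff.1 hy ⟨n, hn⟩)).symm
    have : (centralizer ({n} : Set G)).Normal := by
      refine normalizer_eq_top_iff.1 (top_le_iff.1 fun g _ => ?_)
      refine h.mem_normalizer (v := (w : G)) (fun e => hw1 (Subtype.ext e))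
        (hsub _ ⟨w, hw, rfl⟩) (hsub _ (hcen.conj_mem _ ⟨w, hw, rfl⟩ g))
    exact Core.le_fittingSubgroup (h.isNilpotent_centralizer hn1)
  have hNt : N ≠ ⊤ := fun e => hnil (by
    rw [e] at hNnil
    exact Group.nilpotent_of_mulEquiv topEquiv)
  obtain ⟨E, hE⟩ := exists_right_complement'_of_coprime (Coherence.FrobKernel.coprime_index hC)
  have hE0 : E ≠ ⊥ := fun e => hNt (isComplement'_bot_right.1 (e ▸ hE))
  have hE1 : E ≠ ⊤ := fun e => by
    subst e
    exact ne_bot_of_le_ne_bot hA hAN (isComplement'_top_right.1 hE)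
  have hdis : N ⊓ E = ⊥ := hE.disjoint.eq_bot
  have hmal : ∀ g : G, g ∉ E → ∀ x ∈ E, g * x * g⁻¹ ∈ E → x = 1 := by
    intro g hg x hx hgx
    obtain ⟨⟨⟨a, ha⟩, ⟨b, hb⟩⟩, hab⟩ := hE.2 g
    simp only at hab
    subst hab
    have ha1 : a ≠ 1 := fun e => hg (by rw [e, one_mul]; exact hb)
    set x' := b * x * b⁻¹ with hx'
    have hx'E : x' ∈ E := E.mul_mem (E.mul_mem hb hx) (E.inv_mem hb)
    have h1 : a * x' * a⁻¹ * x'⁻¹ ∈ N ⊓ E := by
      refine ⟨?_, E.mul_mem ?_ (E.inv_mem hx'E)⟩
      · rw [show a * x' * a⁻¹ * x'⁻¹ = a * (x' * a⁻¹ * x'⁻¹) by group]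
        exact N.mul_mem ha (hNn.conj_mem _ (N.inv_mem ha) x')
      · rw [hx']; convert hgx using 1; group
    rw [hdis, mem_bot, mul_inv_eq_one, mul_inv_eq_iff_eq_mul] at h1
    by_contra hx1
    have h2 : x' ∈ N ⊓ E := ⟨hC a ha ha1 (mem_centralizer_singleton_iff.2 h1.symm), hx'E⟩
    rw [hdis, mem_bot, hx', conj_eq_one_iff] at h2
    exact hx1 h2
  have hFC := Core.isFrobeniusComplement_of_malnormal hE0 hE1 hmal
  have hfree : ∀ e ∈ E, e ≠ 1 → A ⊓ centralizer ({e} : Set G) = ⊥ := by
    intro e he he1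
    refine eq_bot_iff.2 fun a ha => mem_bot.2 ?_
    by_contra ha1
    have h1 : e ∈ N ⊓ E := ⟨hC a (hAN ha.1) ha1
      (mem_centralizer_singleton_iff.2 (mem_centralizer_singleton_iff.1 ha.2).symm), he⟩
    rw [hdis, mem_bot] at h1
    exact he1 h1
  have hnorm : E ≤ normalizer (A : Set G) := by rw [normalizer_eq_top]; exact le_top
  have hEnil : Group.IsNilpotent E := by
    have : Nontrivial E := E.nontrivial_iff_ne_bot.2 hE0
    have : Nontrivial A := A.nontrivial_iff_ne_bot.2 hA
    exact (h.subgroup E).isNilpotent_of_center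
      (Core.exists_isFPF hnorm hfree).center_ne_bot
  have hFPF : OddLocal.CN.FPF E A := ⟨hAc, hA, hnorm, (Core.exists_isFPF hnorm hfree).coprime.symm, hfree⟩
  refine ⟨E, hFC, ?_⟩
  rcases hFPF.structure' hEnil with hc | ⟨C, Q, hCQ, hcomm, hCc, hCodd, k, ⟨e⟩⟩
  · exact Or.inl hc
  have hk : k ≤ 1 := quaternion_le_one (h.subgroup Q) e
  have hcard : Nat.card Q = 4 * 2 ^ k := by
    rw [Nat.card_congr e.toEquiv, Nat.card_eq_fintype_card, QuaternionGroup.card]
  have hcop : (Nat.card C).Coprime (Nat.card Q) := by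
    rw [hcard, show 4 * 2 ^ k = 2 ^ (k + 2) by ring]
    exact Nat.Coprime.pow_right _ (Nat.coprime_two_right.2 hCodd)
  let f : C × Q →* G := C.subtype.noncommCoprod Q.subtype fun a b => hcomm a a.2 b b.2
  have hf : Function.Injective f := MonoidHom.noncommCoprod_injective _ _ _ |>.2
    ⟨C.subtype_injective, Q.subtype_injective, by
      rw [range_subtype, range_subtype, disjoint_iff]
      exact Coprime.inf_eq_bot_of_coprime hcop⟩
  have hrange : f.range = E := by
    refine (MonoidHom.noncommCoprod_range C.subtype Q.subtype _).trans ?_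
    rw [range_subtype, range_subtype, hCQ]
  let φ : C × Q ≃* E := (MonoidHom.ofInjective hf).trans (MulEquiv.subgroupCongr hrange)
  interval_cases k
  · left
    have : IsCyclic Q := (MulEquiv.isCyclic e).2 (by simpa using QuaternionGroup.quaternionGroup_one_isCyclic)
    exact (MulEquiv.isCyclic φ).1 (Group.isCyclic_prod_iff.2 ⟨hCc, this, hcop⟩)
  · right
    exact ⟨Nat.card C, hCodd, ⟨φ.symm.trans
      ((zmodCyclicMulEquiv hCc).symm.prodCongr (e.trans (MulEquiv.refl _)))⟩⟩

end Cfsg.Agent.TICent
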