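import Cfsg.Agent.TICent.Count
import Cfsg.Agent.S0338
import Cfsg.Agent.S0738
import Cfsg.Agent.S0885
import Cfsg.Agent.S1147
import Mathlib.GroupTheory.GroupAction.MultipleTransitivity

/-!
# The coset action is a Zassenhaus action, and `K` is an elementary abelian `2`-group
-/

set_option autoImplicit false

namespace Cfsg.Agent.TICent

open Subgroup MulAction
open scoped Pointwise

variable {G : Type*} [Group G] [Finite G] {T : Sylow 2 G} {K M : Subgroup G}

namespace Setting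

variable (S : Setting T K M)
include S

theorem twoPt_ne_bot {g : G} (hg : g ∉ M) : twoPt M g ≠ ⊥ := fun e => by
  have h1 := (S.twoPt_spec hg).1
  rw [e, card_bot] at h1
  have := S.two_le
  omega

theorem odd_twoPt {g : G} (hg : g ∉ M) : Odd (Nat.card (twoPt M g)) := by
  rw [← Nat.not_even_iff_odd, even_iff_two_dvd]
  intro h2
  have : Fact (Nat.Prime 2) := ⟨Nat.prime_two⟩
  obtain ⟨⟨d, hd⟩, ho⟩ := exists_prime_orderOf_dvd_card' 2 h2
  rw [orderOf_mk] at ho
  have h1 : d ∈ K ⊓ twoPt M g := ⟨S.invol_mem d hd.1 ho, hd⟩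
  rw [S.inf_twoPt hg, mem_bot] at h1
  exact S.coe_ne_one ho h1

theorem eq_one_of_mem_normalizer {g k : G} (hg : g ∉ M) (hk : k ∈ K)
    (hkn : ∀ d ∈ twoPt M g, k⁻¹ * d * k ∈ twoPt M g) : k = 1 := by
  obtain ⟨d, hd, hd1⟩ := (bot_or_exists_ne_one _).resolve_left (S.twoPt_ne_bot hg)
  have h1 : d⁻¹ * (k⁻¹ * d * k) ∈ K ⊓ twoPt M g := by
    refine ⟨?_, (twoPt M g).mul_mem ((twoPt M g).inv_mem hd) (hkn d hd)⟩
    rw [show d⁻¹ * (k⁻¹ * d * k) = d⁻¹ * k⁻¹ * d * k by group]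
    refine K.mul_mem ?_ hk
    have h2 := (mem_normalizer_iff.1 (S.norm (M.inv_mem hd.1)) k⁻¹).1 (K.inv_mem hk)
    rwa [inv_inv] at h2
  rw [S.inf_twoPt hg, mem_bot, inv_mul_eq_one] at h1
  by_contra hk1
  have h2 : d ∈ K ⊓ twoPt M g :=
    ⟨S.cent k hk hk1 (mem_centralizer_singleton_iff.2 (by
      calc d * k = k * (k⁻¹ * d * k) := by group
        _ = k * d := by rw [← h1])), hd⟩
  rw [S.inf_twoPt hg, mem_bot] at h2
  exact hd1 h2

theorem exists_mul_of_mem {g m : G} (hg : g ∉ M) (hm : m ∈ M) :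
    ∃ k ∈ K, ∃ d ∈ twoPt M g, m = k * d := by
  obtain ⟨⟨⟨a, ha⟩, ⟨b, hb⟩⟩, hab⟩ := (S.sup_twoPt hg).2 (⟨m, hm⟩ : M)
  exact ⟨a, ha, b, hb, (congrArg Subtype.val hab).symm⟩

/-- An element outside `M` centralising a two-point stabiliser does not exist. -/
theorem mem_of_centralizes {g c : G} (hg : g ∉ M) (hc : ∀ d ∈ twoPt M g, c * d = d * c) : c ∈ M := by
  by_contra hcM
  have heq : twoPt M g = twoPt M c := by
    refine eq_of_le_of_card_ge (fun d hd => mem_twoPt.2 ⟨hd.1, ?_⟩) (by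
      rw [(S.twoPt_spec hg).1, (S.twoPt_spec hcM).1])
    rw [mul_assoc, ← hc d hd, inv_mul_cancel_left]
    exact hd.1
  rw [heq] at hc
  obtain ⟨t, ht, htc, hinv⟩ := (S.twoPt_spec hcM).2
  have hm : t⁻¹ * c ∈ M := QuotientGroup.eq.1 htc
  have htt : t⁻¹ = t := inv_eq_of_mul_eq_one_right (by rw [← pow_two, ← ht, pow_orderOf_eq_one])
  obtain ⟨k, hk, d', hd', hkd⟩ := S.exists_mul_of_mem hcM hm
  have hconj : ∀ d ∈ twoPt M c, (k * d')⁻¹ * d * (k * d') = d⁻¹ := by
    intro d hd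
    rw [← hkd]
    calc (t⁻¹ * c)⁻¹ * d * (t⁻¹ * c) = c⁻¹ * (t * d * t⁻¹) * c := by group
      _ = d⁻¹ := by rw [htt, hinv d hd, mul_assoc, ← hc _ ((twoPt M c).inv_mem hd),
        inv_mul_cancel_left]
  have hk1 : k = 1 := S.eq_one_of_mem_normalizer hcM hk fun d hd => by
    have h1 : k⁻¹ * d * k = d' * ((k * d')⁻¹ * d * (k * d')) * d'⁻¹ := by group
    rw [h1, hconj d hd]
    exact (twoPt M c).mul_mem ((twoPt M c).mul_mem hd' ((twoPt M c).inv_mem hd))
      ((twoPt M c).inv_mem hd')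
  subst hk1
  rw [one_mul] at hkd hconj
  obtain ⟨d, hd, hd1⟩ := (bot_or_exists_ne_one _).resolve_left (S.twoPt_ne_bot hcM)
  have h2 := hconj d' hd'
  rw [inv_mul_cancel, one_mul] at h2
  -- `d'` is its own inverse, hence trivial
  have hd'1 : d' = 1 := by
    by_contra hne
    have ho : orderOf d' = 2 :=
      orderOf_eq_prime (by rw [pow_two]; exact mul_eq_one_iff_eq_inv.2 h2) hne
    have h3 : d' ∈ K ⊓ twoPt M c := ⟨S.invol_mem d' hd'.1 ho, hd'⟩
    rw [S.inf_twoPt hcM, mem_bot] at h3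
    exact hne h3
  have h4 := hconj d hd
  rw [hd'1, inv_one, one_mul, mul_one] at h4
  have ho : orderOf d = 2 :=
    orderOf_eq_prime (by rw [pow_two]; exact mul_eq_one_iff_eq_inv.2 h4) hd1
  have h5 : d ∈ K ⊓ twoPt M c := ⟨S.invol_mem d hd.1 ho, hd⟩
  rw [S.inf_twoPt hcM, mem_bot] at h5
  exact hd1 h5

/-- `M` permutes the other cosets transitively, through `K`. -/
theorem exists_mul_coset {g g' : G} (hg : g ∉ M) (hg' : g' ∉ M) :
    ∃ k ∈ K, ((k * g : G) : G ⧸ M) = (g' : G ⧸ M) := by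
  have := S.normal
  have hsolv : Group.IsSolvable ((twoPt M g).subgroupOf M) := by
    have h1 := S0205.result (G := twoPt M g) (S.odd_twoPt hg)
    exact Group.isSolvable_of_isSolvable_injective
      (f := (subgroupOfEquivOfLe (show twoPt M g ≤ M from inf_le_left)).toMonoidHom)
      (MulEquiv.injective _)
  obtain ⟨⟨k, hkM⟩, hk, hconj⟩ := Coprime.exists_conj_of_isComplement' S.coprime (Or.inr hsolv)
    (S.sup_twoPt hg) (S.sup_twoPt hg')
  refine ⟨k, hk, ?_⟩
  have hkg : k * g ∉ M := fun e => hg (by simpa using M.mul_mem (M.inv_mem hkM) e)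
  have hD : twoPt M g' = twoPt M (k * g) := by
    ext x
    by_cases hx : x ∈ M
    · have h1 : (⟨x, hx⟩ : M) ∈ (MulAut.conj (⟨k, hkM⟩ : M) • (twoPt M g).subgroupOf M) ↔
          x ∈ twoPt M g' := by rw [hconj]; rfl
      rw [← h1, Coprime.mem_conj_smul]
      show k⁻¹ * x * k ∈ twoPt M g ↔ _
      rw [mem_twoPt, mem_twoPt, show (k * g)⁻¹ * x * (k * g) = g⁻¹ * (k⁻¹ * x * k) * g by group]
      exact ⟨fun h => ⟨hx, h.2⟩, fun h => ⟨M.mul_mem (M.mul_mem (M.inv_mem hkM) hx) hkM, h.2⟩⟩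
    · exact ⟨fun h => absurd h.1 hx, fun h => absurd h.1 hx⟩
  obtain ⟨t, ht, htg, hinv⟩ := (S.twoPt_spec hkg).2
  obtain ⟨t', ht', htg', hinv'⟩ := (S.twoPt_spec hg').2
  rw [hD] at hinv'
  have htt : t⁻¹ = t := inv_eq_of_mul_eq_one_right (by rw [← pow_two, ← ht, pow_orderOf_eq_one])
  have htt' : t'⁻¹ = t' := inv_eq_of_mul_eq_one_right (by rw [← pow_two, ← ht', pow_orderOf_eq_one])
  rw [← htg, ← htg', QuotientGroup.eq]
  refine S.mem_of_centralizes hkg fun d hd => ?_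
  have h1 : t' * d * t' = t * d * t := by rw [hinv d hd, hinv' d hd]
  calc t⁻¹ * t' * d = t⁻¹ * (t' * d * t') * t'⁻¹ := by group
    _ = t⁻¹ * (t * d * t) * t'⁻¹ := by rw [h1]
    _ = d * (t⁻¹ * t') := by rw [htt, htt']; rw [← mul_assoc t, ← mul_assoc t]; nth_rw 1 [← htt]; group

theorem ne_top : M ≠ ⊤ := S.se.1

theorem index_eq : M.index = Nat.card K + 1 := by
  classical
  obtain ⟨g, hg⟩ : ∃ g, g ∉ M := by
    by_contra! h
    exact S.ne_top (eq_top_iff.2 fun x _ => h x)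
  have : Fintype (G ⧸ M) := Fintype.ofFinite _
  let f : K → {q : G ⧸ M // q ≠ ((1 : G) : G ⧸ M)} := fun k => ⟨((k : G) * g : G), fun e => by
    rw [QuotientGroup.eq, mul_one] at e
    exact hg (by simpa using M.mul_mem (M.inv_mem (S.K_le k.2)) (M.inv_mem e))⟩
  have hf : Function.Bijective f := by
    refine ⟨fun a b e => ?_, fun ⟨q, hq⟩ => ?_⟩
    · have e' : ((a : G) * g : G) = (b : G) * g ∨ True := Or.inr trivial
      have h1 : ((a : G) * g)⁻¹ * ((b : G) * g) ∈ M := QuotientGroup.eq.1 (congrArg Subtype.val e)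
      have h2 : (a : G)⁻¹ * b ∈ K ⊓ twoPt M g := by
        refine ⟨K.mul_mem (K.inv_mem a.2) b.2, mem_twoPt.2
          ⟨S.K_le (K.mul_mem (K.inv_mem a.2) b.2), ?_⟩⟩
        rwa [show g⁻¹ * ((a : G)⁻¹ * b) * g = ((a : G) * g)⁻¹ * ((b : G) * g) by group]
      rw [S.inf_twoPt hg, mem_bot] at h2
      exact Subtype.ext (inv_mul_eq_one.1 h2)
    · induction q using QuotientGroup.induction_on with | _ g' => ?_
      have hg' : g' ∉ M := fun e => hq (QuotientGroup.eq.2 (by simpa using M.inv_mem e))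
      obtain ⟨k, hk, he⟩ := S.exists_mul_coset hg hg'
      exact ⟨⟨k, hk⟩, Subtype.ext he⟩
  rw [Nat.card_congr (Equiv.ofBijective f hf), ← Finite.card_option]
  exact Nat.card_congr (Equiv.optionSubtypeNe ((1 : G) : G ⧸ M)).symm

theorem even_card : Even (Nat.card K) := by
  obtain ⟨z, hz, ho⟩ := S.exists_involution
  exact even_iff_two_dvd.2 (ho ▸ Subgroup.orderOf_dvd_natCard _ hz)

theorem fix_eq {u g : G} (hu : u ∈ K) (hu1 : u ≠ 1) (hug : u • (g : G ⧸ M) = (g : G ⧸ M)) :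
    g ∈ M := by
  by_contra hg
  have h1 : u ∈ K ⊓ twoPt M g := by
    refine ⟨hu, mem_twoPt.2 ⟨S.K_le hu, ?_⟩⟩
    rw [MulAction.Quotient.smul_coe, smul_eq_mul, QuotientGroup.eq] at hug
    have := M.inv_mem hug
    simpa [mul_assoc] using this
  rw [S.inf_twoPt hg, mem_bot] at h1
  exact hu1 h1

theorem not_mem_of_ne {g : G} (h : (g : G ⧸ M) ≠ ((1 : G) : G ⧸ M)) : g ∉ M := fun e =>
  h (QuotientGroup.eq.2 (by simpa using M.inv_mem e))

theorem exists_unique_smul : ∀ y w : G ⧸ M, y ≠ ((1 : G) : G ⧸ M) → w ≠ ((1 : G) : G ⧸ M) →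
    ∃! u : K, (u : G) • y = w := by
  intro y w hy hw
  induction y using QuotientGroup.induction_on with | _ a => ?_
  induction w using QuotientGroup.induction_on with | _ b => ?_
  obtain ⟨k, hk, he⟩ := S.exists_mul_coset (S.not_mem_of_ne hy) (S.not_mem_of_ne hw)
  refine ⟨⟨k, hk⟩, he, fun v hv => ?_⟩
  by_contra hne
  refine S.not_mem_of_ne hy (S.fix_eq (u := k⁻¹ * (v : G)) (K.mul_mem (K.inv_mem hk) v.2)
    (fun e => hne (Subtype.ext (inv_mul_eq_one.1 e).symm)) ?_)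
  have hv' : (v : G) • (a : G ⧸ M) = (b : G ⧸ M) := hv
  have he' : k • (a : G ⧸ M) = (b : G ⧸ M) := he
  rw [mul_smul, hv', ← he', inv_smul_smul]

theorem two_transitive : MulAction.IsMultiplyPretransitive G (G ⧸ M) 2 := by
  rw [MulAction.is_two_pretransitive_iff]
  intro a b c d hab hcd
  induction a using QuotientGroup.induction_on with | _ a => ?_
  induction c using QuotientGroup.induction_on with | _ c => ?_
  have h1 : a⁻¹ • b ≠ ((1 : G) : G ⧸ M) := fun e => hab (by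
    rw [inv_smul_eq_iff] at e
    rw [e, MulAction.Quotient.smul_coe, smul_eq_mul, mul_one])
  have h2 : c⁻¹ • d ≠ ((1 : G) : G ⧸ M) := fun e => hcd (by
    rw [inv_smul_eq_iff] at e
    rw [e, MulAction.Quotient.smul_coe, smul_eq_mul, mul_one])
  obtain ⟨u, hu, -⟩ := S.exists_unique_smul _ _ h1 h2
  refine ⟨c * u * a⁻¹, ?_, ?_⟩
  · rw [MulAction.Quotient.smul_coe, smul_eq_mul, QuotientGroup.eq,
      show (c * (u : G) * a⁻¹ * a)⁻¹ * c = (u : G)⁻¹ by group]
    exact M.inv_mem (S.K_le u.2)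
  · rw [mul_smul, mul_smul, hu, smul_inv_smul]

theorem three {g : G} {a b c : G ⧸ M} (hab : a ≠ b) (hbc : b ≠ c) (hac : a ≠ c)
    (ha : g • a = a) (hb : g • b = b) (hc : g • c = c) : g = 1 := by
  induction a using QuotientGroup.induction_on with | _ a => ?_
  -- move the first point to `M`
  set x := a⁻¹ * g * a with hx
  have key : ∀ q : G ⧸ M, g • q = q → x • (a⁻¹ • q) = a⁻¹ • q := fun q hq => by
    rw [hx, mul_smul, mul_smul, smul_inv_smul, hq]
  have hxM : x ∈ M := by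
    rw [MulAction.Quotient.smul_coe, smul_eq_mul, QuotientGroup.eq] at ha
    rw [hx]
    have := M.inv_mem ha
    simpa [mul_assoc] using this
  suffices x = 1 by
    rw [hx] at this
    calc g = a * (a⁻¹ * g * a) * a⁻¹ := by group
      _ = 1 := by rw [this]; group
  have hne : ∀ q : G ⧸ M, (a : G ⧸ M) ≠ q → a⁻¹ • q ≠ ((1 : G) : G ⧸ M) := fun q hq e => hq (by
    rw [inv_smul_eq_iff] at e
    rw [e, MulAction.Quotient.smul_coe, smul_eq_mul, mul_one])
  obtain ⟨k, hk, -⟩ := S.exists_unique_smul _ _ (hne b hab) (hne c hac)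
  have hb' := key b hb
  have hc' := key c hc
  rw [← hk] at hc'
  obtain ⟨e, he⟩ := QuotientGroup.mk_surjective (a⁻¹ • b)
  rw [← he] at hb' hc' hk
  have heM : e ∉ M := S.not_mem_of_ne (he ▸ hne b hab)
  have hmem : ∀ y ∈ M, y • (e : G ⧸ M) = (e : G ⧸ M) → y ∈ twoPt M e := fun y hy h => by
    refine mem_twoPt.2 ⟨hy, ?_⟩
    rw [MulAction.Quotient.smul_coe, smul_eq_mul, QuotientGroup.eq] at h
    simpa [mul_assoc] using M.inv_mem h
  have hk1 : (k : G) ≠ 1 := fun e1 => hbc (by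
    have h := hk
    rw [e1, one_smul, he] at h
    exact MulAction.injective a⁻¹ h)
  have hxD := hmem x hxM hb'
  have hxD' := hmem ((k : G)⁻¹ * x * k) (M.mul_mem (M.mul_mem (M.inv_mem (S.K_le k.2)) hxM) (S.K_le k.2))
    (by rw [mul_smul, mul_smul, hc', inv_smul_smul])
  have h1 : x⁻¹ * ((k : G)⁻¹ * x * k) ∈ K ⊓ twoPt M e := by
    refine ⟨?_, (twoPt M e).mul_mem ((twoPt M e).inv_mem hxD) hxD'⟩
    rw [show x⁻¹ * ((k : G)⁻¹ * x * k) = x⁻¹ * (k : G)⁻¹ * x * k by group]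
    refine K.mul_mem ?_ k.2
    have h2 := (mem_normalizer_iff.1 (S.norm (M.inv_mem hxM)) (k : G)⁻¹).1 (K.inv_mem k.2)
    rwa [inv_inv] at h2
  rw [S.inf_twoPt heM, mem_bot, inv_mul_eq_one] at h1
  have h3 : x ∈ K ⊓ twoPt M e := ⟨S.cent k k.2 hk1 (mem_centralizer_singleton_iff.2 (by
    calc x * k = k * ((k : G)⁻¹ * x * k) := by group
      _ = k * x := by rw [← h1])), hxD⟩
  rwa [S.inf_twoPt heM, mem_bot] at h3

theorem stabilizer_pair (g : G) :
    MulAction.stabilizer G ((1 : G) : G ⧸ M) ⊓ MulAction.stabilizer G ((g : G) : G ⧸ M) = twoPt M g := by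
  ext x
  rw [mem_inf, MulAction.mem_stabilizer_iff, MulAction.mem_stabilizer_iff,
    MulAction.Quotient.smul_coe, MulAction.Quotient.smul_coe, smul_eq_mul, smul_eq_mul,
    QuotientGroup.eq, QuotientGroup.eq, mem_twoPt, mul_one, mul_one, M.inv_mem_iff]
  refine and_congr_right fun _ => ?_
  rw [← M.inv_mem_iff, show ((x * g)⁻¹ * g)⁻¹ = g⁻¹ * x * g by group]

theorem zassenhaus (hno : ∀ N : Subgroup G, N.Normal → Group.IsSolvable N → N = ⊥) :
    Cfsg.IsZassenhausGroup G (G ⧸ M) := by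
  obtain ⟨g, hg⟩ : ∃ g, g ∉ M := by
    by_contra! h
    exact S.ne_top (eq_top_iff.2 fun x _ => h x)
  have hg1 : ((1 : G) : G ⧸ M) ≠ (g : G ⧸ M) := fun e => hg (by simpa using QuotientGroup.eq.1 e)
  refine ⟨⟨fun {x y} hxy => ?_⟩, S.two_transitive, fun x a b c h1 h2 h3 => S.three h1 h2 h3, ?_, ?_⟩
  · obtain ⟨z, hzK, hz⟩ := S.exists_involution
    have hgz : (z • (g : G ⧸ M)) ≠ (g : G ⧸ M) := fun e => hg (S.fix_eq hzK (S.coe_ne_one hz) e)
    have hz1 : z • ((1 : G) : G ⧸ M) = ((1 : G) : G ⧸ M) := by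
      rw [MulAction.Quotient.smul_coe, smul_eq_mul, QuotientGroup.eq]
      simpa using M.inv_mem (S.K_le hzK)
    refine (inv_mul_eq_one.1 (S.three (g := x⁻¹ * y) hg1 hgz.symm
      (fun e => hg1 (MulAction.injective z (show z • ((1 : G) : G ⧸ M) = z • (g : G ⧸ M) from hz1.trans e))) ?_ ?_ ?_)) <;>
      rw [mul_smul, ← hxy, inv_smul_smul]
  · obtain ⟨d, hd, hd1⟩ := (bot_or_exists_ne_one _).resolve_left (S.twoPt_ne_bot hg)
    rw [← S.stabilizer_pair g] at hd
    exact ⟨d, hd1, _, _, hg1, hd.1, hd.2⟩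
  · intro N hN htr
    haveI : MulAction.IsPretransitive N (G ⧸ M) := htr
    by_contra! hreg
    have hst : MulAction.stabilizer N ((1 : G) : G ⧸ M) = ⊥ := hreg _
    have h1 := MulAction.index_stabilizer_of_transitive N ((1 : G) : G ⧸ M)
    rw [hst, index_bot] at h1
    change Nat.card N = M.index at h1
    rw [S.index_eq] at h1
    have hodd : Odd (Nat.card N) := h1 ▸ S.even_card.add_one
    have hNb := hno N hN (S0205.result hodd)
    rw [hNb, card_bot] at h1
    have := Nat.card_pos (α := K)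
    omega

/-- `K` is an elementary abelian `2`-group. -/
theorem elementary (h : CentTI G)
    (hno : ∀ N : Subgroup G, N.Normal → Group.IsSolvable N → N = ⊥) :
    IsMulCommutative K ∧ ∀ u ∈ K, u ^ 2 = 1 := by
  classical
  have : Fintype (G ⧸ M) := Fintype.ofFinite _
  obtain ⟨g, hg⟩ : ∃ g, g ∉ M := by
    by_contra! h
    exact S.ne_top (eq_top_iff.2 fun x _ => h x)
  have hg1 : ((1 : G) : G ⧸ M) ≠ (g : G ⧸ M) := fun e => hg (by simpa using QuotientGroup.eq.1 e)
  have hZ := S.zassenhaus hno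
  have hΩ : Fintype.card (G ⧸ M) = Nat.card K + 1 := by
    rw [← Nat.card_eq_fintype_card]; exact S.index_eq
  have hsimple : IsSimpleGroup G := S0338.result hZ (hΩ ▸ S.even_card.add_one)
  have hst : MulAction.stabilizer G ((1 : G) : G ⧸ M) = M := MulAction.stabilizer_quotient M
  have hKst : K ≤ MulAction.stabilizer G ((1 : G) : G ⧸ M) := hst.symm ▸ S.K_le
  have hfix : ∀ u ∈ K, u ≠ 1 → ∀ c : G ⧸ M, u • c = c → c = ((1 : G) : G ⧸ M) := by
    intro u hu hu1 c hc
    induction c using QuotientGroup.induction_on with | _ b => ?_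
    exact QuotientGroup.eq.2 (by simpa using M.inv_mem (S.fix_eq hu hu1 hc))
  obtain ⟨z, hzK, hz⟩ := S.exists_involution
  rcases S0885.result hZ hg1 (Nat.card K) _ hΩ rfl
    (by rw [S.stabilizer_pair]; exact S.odd_twoPt hg) K hKst hΩ.symm hfix with hle | ⟨h2, hna, -⟩
  · obtain ⟨hab, p, f, hp, hexp, -⟩ := S0738.result hZ hg1 (by omega) K hKst
      (by
        refine ⟨fun n hn m => ?_⟩
        have hm : (m : G) ∈ M := hst.le m.2
        exact (mem_normalizer_iff.1 (S.norm hm) n).1 hn)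
      S.exists_unique_smul
    refine ⟨hab, fun u hu => ?_⟩
    have hp2 : p = 2 := by
      have h1 := orderOf_dvd_of_pow_eq_one (hexp z hzK)
      rw [hz] at h1
      exact ((Nat.prime_dvd_prime_iff_eq Nat.prime_two hp).1 h1).symm
    exact hp2 ▸ hexp u hu
  exfalso
  obtain ⟨n, -, hn1, hcardΩ, -, hcardD, -⟩ := S1147.result hZ hg1 K hKst
    (fun m hm u hu => (mem_normalizer_iff.1 (S.norm (hst.le hm)) u).1 hu) S.exists_unique_smul h2
    (by obtain ⟨u, v, huv⟩ := hna; exact ⟨u, u.2, v, v.2, fun e => huv (Subtype.ext e)⟩)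
  rw [S.stabilizer_pair, (S.twoPt_spec hg).1] at hcardD
  rw [Nat.card_eq_fintype_card, hΩ] at hcardΩ
  have hKcard : Nat.card K = 2 ^ (2 * n) := by omega
  obtain ⟨u, v, huv⟩ := hna
  refine huv ?_
  -- every element of `K` is central
  suffices hcen : ∀ y ∈ K, y ≠ 1 → centralizer ({y} : Set G) = K by
    rcases eq_or_ne (u : G) 1 with e | e
    · exact Subtype.ext (by simp [e])
    · have h1 : (v : G) ∈ centralizer ({(u : G)} : Set G) := (hcen u u.2 e).symm ▸ v.2
      exact Subtype.ext (mem_centralizer_singleton_iff.1 h1).symm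
  intro y hy hy1
  by_cases hyinv : orderOf y = 2
  · exact S.cent_eq y hy hyinv
  set C := centralizer ({y} : Set G) with hC
  have hCK : C ≤ K := S.cent y hy hy1
  have hinvC : ∀ t : G, orderOf t = 2 → t ∈ M → t ∈ C := fun t ht htM => by
    have h1 : y ∈ centralizer ({t} : Set G) := (S.cent_eq t (S.invol_mem t htM ht) ht).symm ▸ hy
    exact mem_centralizer_singleton_iff.2 (mem_centralizer_singleton_iff.1 h1).symm
  have hMC : M ≤ normalizer (C : Set G) := fun m hm =>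
    h.mem_normalizer (S.coe_ne_one hz) (hinvC z hz (S.K_le hzK))
      (hinvC _ ((Invol.orderOf_conj m z).trans hz) (M.mul_mem (M.mul_mem hm (S.K_le hzK)) (M.inv_mem hm)))
  set D := twoPt M g with hD
  letI : MulAction D {c : C // c ≠ 1} :=
    { smul := fun d c => ⟨⟨(d : G) * (c.1 : G) * (d : G)⁻¹, (mem_normalizer_iff.1 (hMC d.2.1) _).1 c.1.2⟩,
        fun e => c.2 (Subtype.ext (conj_eq_one_iff.1 (congrArg Subtype.val e)))⟩
      one_smul := fun c => Subtype.ext (Subtype.ext (by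
        show (1 : G) * (c.1 : G) * (1 : G)⁻¹ = c.1
        group))
      mul_smul := fun d d' c => Subtype.ext (Subtype.ext (by
        show (d : G) * d' * (c.1 : G) * ((d : G) * d')⁻¹ = d * (d' * c.1 * (d' : G)⁻¹) * (d : G)⁻¹
        group)) }
  have hfree := Core.card_dvd_of_free (A := D) (X := {c : C // c ≠ 1}) fun c =>
    eq_bot_iff.2 fun d hd => mem_bot.2 (Subtype.ext (by
      have h1 : (d : G) * (c.1 : G) * (d : G)⁻¹ = c.1 :=
        congrArg (fun w : {c : C // c ≠ 1} => (w.1 : G)) (MulAction.mem_stabilizer_iff.1 hd)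
      have hc1 : (c.1 : G) ≠ 1 := fun e => c.2 (Subtype.ext e)
      have h2 : (d : G) ∈ K ⊓ D := ⟨S.cent _ (hCK c.1.2) hc1
        (mem_centralizer_singleton_iff.2 (mul_inv_eq_iff_eq_mul.1 h1)), d.2⟩
      rw [S.inf_twoPt hg, mem_bot] at h2
      exact h2))
  have hsub : Nat.card {c : C // c ≠ 1} + 1 = Nat.card C := by
    rw [← Finite.card_option]
    exact Nat.card_congr (Equiv.optionSubtypeNe (1 : C))
  have hbig : K.relIndex M + 1 ≤ Nat.card {c : C // c ≠ 1} := by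
    rw [← S.card_invol_M, ← Finite.card_option]
    refine Nat.card_le_card_of_injective (fun o => o.elim ⟨⟨y, self_mem_centralizer y⟩,
      fun e => hy1 (congrArg Subtype.val e)⟩ fun t => ⟨⟨t.1, hinvC t.1 t.2.1 t.2.2⟩,
      fun e => S.coe_ne_one t.2.1 (congrArg Subtype.val e)⟩) ?_
    rintro (_ | s) (_ | t) e
    · rfl
    · have e' : y = t.1 := congrArg (fun w : {c : C // c ≠ 1} => (w.1 : G)) e
      exact absurd (e' ▸ t.2.1) hyinv
    · have e' : s.1 = y := congrArg (fun w : {c : C // c ≠ 1} => (w.1 : G)) e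
      exact absurd (e' ▸ s.2.1) hyinv
    · exact congrArg some (Subtype.ext (congrArg (fun w : {c : C // c ≠ 1} => (w.1 : G)) e))
  obtain ⟨i, hi, hiC⟩ : ∃ i ≤ 2 * n, Nat.card C = 2 ^ i :=
    (Nat.dvd_prime_pow Nat.prime_two).1 (hKcard ▸ card_dvd_of_le hCK)
  rw [hcardD] at hbig
  rw [hD, (S.twoPt_spec hg).1, hcardD] at hfree
  have hfree' : (2 ^ n - 1) ∣ 2 ^ i - 1 := by
    rwa [show 2 ^ i - 1 = Nat.card {c : C // c ≠ 1} by omega]
  have hni : n ∣ i := by
    have h1 := Nat.pow_sub_one_gcd_pow_sub_one 2 n i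
    rw [Nat.gcd_eq_left hfree'] at h1
    have h2 : 2 ^ n = 2 ^ Nat.gcd n i := by
      have := Nat.one_le_two_pow (n := n)
      have := Nat.one_le_two_pow (n := Nat.gcd n i)
      omega
    rw [Nat.pow_right_injective le_rfl h2]
    exact Nat.gcd_dvd_right n i
  have hlt : n < i := by
    refine (Nat.pow_lt_pow_iff_right (by norm_num : 1 < 2)).1 ?_
    have := Nat.one_le_two_pow (n := n)
    omega
  have hi2 : i = 2 * n := by
    obtain ⟨c, rfl⟩ := hni
    have h1 : n * c ≤ n * 2 := by omega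
    have h2 := Nat.le_of_mul_le_mul_left h1 (by omega)
    interval_cases c <;> omega
  exact eq_of_le_of_card_ge hCK (by rw [hiC, hKcard, hi2])

end Setting

end Cfsg.Agent.TICent
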