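import Cfsg.Prelude.Def_OddOrderLocal
import Cfsg.Prelude.Def_LieExceptional
import Cfsg.Agent.Core.Fitting

/-!
# Groups whose element centralisers are trivial intersection sets: elementary facts
-/

set_option autoImplicit false

namespace Cfsg.Agent.TICent

open Subgroup

/-- Every centraliser of an element is a trivial intersection set. -/
def CentTI (G : Type*) [Group G] : Prop :=
  ∀ x : G, Cfsg.IsTISubset (centralizer ({x} : Set G) : Set G)

variable {G : Type*} [Group G]

theorem CentTI.mem_normalizer (h : CentTI G) {u v g : G} (hv1 : v ≠ 1)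
    (hv : v ∈ centralizer ({u} : Set G)) (hgv : g * v * g⁻¹ ∈ centralizer ({u} : Set G)) :
    g ∈ normalizer (centralizer ({u} : Set G) : Set G) := by
  by_contra hg
  exact hv1 (h u g hg v hv hgv)

theorem self_mem_centralizer (u : G) : u ∈ centralizer ({u} : Set G) :=
  mem_centralizer_singleton_iff.2 rfl

/-- An element fixing some nontrivial element of `C(u)` sends `u` to something commuting with `u`. -/
theorem CentTI.commute_conj (h : CentTI G) {u v g : G} (hv1 : v ≠ 1) (hv : Commute v u)
    (hgv : Commute g v) : Commute (g * u * g⁻¹) u := by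
  have hv' : v ∈ centralizer ({u} : Set G) := mem_centralizer_singleton_iff.2 hv.eq
  have hg := h.mem_normalizer hv1 hv' (g := g) (by rwa [hgv.eq, mul_inv_cancel_right])
  exact mem_centralizer_singleton_iff.1
    ((mem_normalizer_iff.1 hg u).1 (self_mem_centralizer u))

/-- If each element commutes with all its conjugates then the group is nilpotent. -/
theorem isNilpotent_of_commute_conj [Finite G] (h : ∀ x g : G, Commute (g * x * g⁻¹) x) :
    Group.IsNilpotent G := by
  have hF : Cfsg.fittingSubgroup G = ⊤ := by
    refine top_le_iff.1 fun x _ => ?_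
    have : IsMulCommutative (normalClosure ({x} : Set G)) := by
      refine Subgroup.isMulCommutative_closure fun a ha b hb => ?_
      obtain ⟨y, hy, hay⟩ := Group.mem_conjugatesOfSet_iff.1 ha
      obtain ⟨y', hy', hby⟩ := Group.mem_conjugatesOfSet_iff.1 hb
      rw [Set.mem_singleton_iff] at hy hy'
      rw [hy] at hay; rw [hy'] at hby
      obtain ⟨c, rfl⟩ := isConj_iff.1 hay
      obtain ⟨d, rfl⟩ := isConj_iff.1 hby
      have h1 := (h x (d⁻¹ * c)).map (MulAut.conj d).toMonoidHom
      simp only [MulEquiv.coe_toMonoidHom, MulAut.conj_apply] at h1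
      convert h1.eq using 1 <;> group
    exact Core.le_fittingSubgroup_of_isMulCommutative (N := normalClosure ({x} : Set G))
      (subset_normalClosure rfl)
  have := Core.fittingSubgroup_isNilpotent (G := G)
  rw [hF] at this
  exact Group.nilpotent_of_mulEquiv topEquiv

theorem CentTI.isNilpotent_of_center [Finite G] (h : CentTI G) (hZ : center G ≠ ⊥) :
    Group.IsNilpotent G := by
  obtain ⟨v, hv, hv1⟩ := (bot_or_exists_ne_one _).resolve_left hZ
  exact isNilpotent_of_commute_conj fun x g =>
    h.commute_conj hv1 (mem_center_iff.1 hv x).symm (mem_center_iff.1 hv g)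

/-- Every centraliser of a nontrivial element is nilpotent. -/
theorem CentTI.isNilpotent_centralizer [Finite G] (h : CentTI G) {x : G} (hx : x ≠ 1) :
    Group.IsNilpotent (centralizer ({x} : Set G)) :=
  isNilpotent_of_commute_conj fun u g => Subtype.ext
    (h.commute_conj hx (mem_centralizer_singleton_iff.1 u.2).symm
      (mem_centralizer_singleton_iff.1 g.2)).eq

/-- The condition passes to subgroups. -/
theorem CentTI.subgroup (h : CentTI G) (H : Subgroup G) : CentTI H := by
  intro x g hg v hv hgv
  have hmem : ∀ w : H, (w : G) ∈ centralizer ({(x : G)} : Set G) ↔ w ∈ centralizer ({x} : Set H) :=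
    fun w => by rw [mem_centralizer_singleton_iff, mem_centralizer_singleton_iff, Subtype.ext_iff]; rfl
  by_cases hx : (x : G) = 1
  · refine absurd (mem_normalizer_iff.2 fun w => ?_) hg
    simp [mem_centralizer_singleton_iff, show x = 1 from Subtype.ext hx]
  refine Subtype.ext (h x g (fun hn => hg (mem_normalizer_iff.2 fun w => ?_)) v ((hmem v).2 hv) ?_)
  · rw [← hmem, ← hmem, coe_mul, coe_mul, coe_inv]
    exact mem_normalizer_iff.1 hn w
  · have := (hmem (g * v * g⁻¹)).2 hgv
    simpa using this

/-- A nontrivial solvable normal subgroup gives a nontrivial abelian normal subgroup. -/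
theorem exists_abelian_normal [Finite G] {N : Subgroup G} [N.Normal] [Group.IsSolvable N]
    (hN : N ≠ ⊥) : ∃ A : Subgroup G, A.Normal ∧ IsMulCommutative A ∧ A ≠ ⊥ := by
  have : Nontrivial N := N.nontrivial_iff_ne_bot.2 hN
  set F := (Cfsg.fittingSubgroup N).map N.subtype with hF
  have hF1 : F ≠ ⊥ := by
    rw [hF, Ne, map_eq_bot_iff_of_injective _ N.subtype_injective]
    exact Core.fittingSubgroup_ne_bot
  have : Group.IsNilpotent F :=
    have := Core.fittingSubgroup_isNilpotent (G := N)
    Group.nilpotent_of_mulEquiv
      ((Cfsg.fittingSubgroup N).equivMapOfInjective _ N.subtype_injective)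
  have : Nontrivial F := F.nontrivial_iff_ne_bot.2 hF1
  refine ⟨(center F).map F.subtype, inferInstance, inferInstance, ?_⟩
  rw [Ne, map_eq_bot_iff_of_injective _ F.subtype_injective]
  exact Group.IsNilpotent.center_ne_bot F

/-- In a nilpotent group containing a Sylow subgroup, every element of `p`-power order lies in it. -/
theorem mem_of_isNilpotent [Finite G] {p : ℕ} [Fact p.Prime] (T : Sylow p G) {C : Subgroup G}
    (hC : Group.IsNilpotent C) (hTC : (T : Subgroup G) ≤ C) {x : G} (hx : x ∈ C)
    (hp : IsPGroup p (zpowers x)) : x ∈ (T : Subgroup G) := by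
  let T' : Sylow p C := T.subtype hTC
  have hn : (T' : Subgroup C).Normal :=
    Sylow.normal_of_normalizerCondition (Group.normalizerCondition_of_isNilpotent (G := C)) T'
  have h1 : (zpowers (⟨x, hx⟩ : C)) ≤ T' := by
    have h2 : IsPGroup p (zpowers (⟨x, hx⟩ : C)) := by
      intro y
      obtain ⟨i, hi⟩ := y.2
      obtain ⟨k, hk⟩ := hp ⟨(y : C), ⟨i, by rw [← hi]; simp⟩⟩
      exact ⟨k, Subtype.ext (Subtype.ext (by simpa using congrArg Subtype.val hk))⟩
    obtain ⟨P, hP⟩ := h2.exists_le_sylow
    exact hP.trans (le_of_eq (by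
      have := T'.unique_of_normal hn
      rw [Subsingleton.elim P T']))
  exact h1 (mem_zpowers _)

end Cfsg.Agent.TICent
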