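import Cfsg.Agent.TICent.Setup
import Cfsg.Agent.Coherence.FrobKernel
import Cfsg.Agent.Coprime.SchurZassenhaus
import Cfsg.Agent.Invol.Count

/-!
# Involutions in the cosets of the normaliser of the centraliser of an involution

Every coset outside `M` contains exactly as many involutions as `M`, which makes `G` doubly
transitive on the cosets of `M`, with two-point stabilisers the complements of `K` in `M`.
-/

set_option autoImplicit false

namespace Cfsg.Agent.TICent

open Subgroup

variable {G : Type*} [Group G] [Finite G] {T : Sylow 2 G} {K M : Subgroup G}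

/-- The stabiliser of the cosets `M` and `gM`. -/
def twoPt (M : Subgroup G) (g : G) : Subgroup G := M ⊓ M.map (MulAut.conj g).toMonoidHom

theorem mem_twoPt {g x : G} : x ∈ twoPt M g ↔ x ∈ M ∧ g⁻¹ * x * g ∈ M := by
  rw [twoPt, mem_inf, Invol.mem_map_conj_iff]

theorem twoPt_mul {g m : G} (hm : m ∈ M) : twoPt M (g * m) = twoPt M g := by
  ext x
  rw [mem_twoPt, mem_twoPt, and_congr_right_iff]
  intro _
  rw [show (g * m)⁻¹ * x * (g * m) = m⁻¹ * (g⁻¹ * x * g) * m by group,
    M.mul_mem_cancel_right hm, M.mul_mem_cancel_left (M.inv_mem hm)]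

namespace Setting

variable (S : Setting T K M)
include S

theorem coe_ne_one {t : G} (ht : orderOf t = 2) : t ≠ 1 := fun e => by
  rw [e, orderOf_one] at ht; omega

theorem normal : (K.subgroupOf M).Normal := normal_subgroupOf_iff_le_normalizer S.K_le |>.2 S.norm

theorem coprime : (Nat.card (K.subgroupOf M)).Coprime (K.subgroupOf M).index := by
  have := S.normal
  refine Coherence.FrobKernel.coprime_index (L := M) fun x hx hx1 y hy => ?_
  exact S.cent x hx (fun e => hx1 (Subtype.ext e))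
    (mem_centralizer_singleton_iff.2 (congrArg Subtype.val (mem_centralizer_singleton_iff.1 hy)))

/-- An element of `M` conjugate to an element of `K` lies in `K`. -/
theorem mem_of_conj {x g : G} (hx : x ∈ K) (hgx : g * x * g⁻¹ ∈ M) : g * x * g⁻¹ ∈ K := by
  have := S.normal
  set y : M := ⟨g * x * g⁻¹, hgx⟩
  have h1 : orderOf (QuotientGroup.mk' (K.subgroupOf M) y) ∣ Nat.card (K.subgroupOf M) := by
    refine (orderOf_map_dvd _ y).trans ?_
    rw [← orderOf_coe, show orderOf ((y : M) : G) = orderOf x from Invol.orderOf_conj g x,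
      Nat.card_congr (subgroupOfEquivOfLe S.K_le).toEquiv]
    exact Subgroup.orderOf_dvd_natCard _ hx
  have h2 : orderOf (QuotientGroup.mk' (K.subgroupOf M) y) ∣ (K.subgroupOf M).index :=
    orderOf_dvd_natCard _
  have h3 := Nat.eq_one_of_dvd_coprimes S.coprime h1 h2
  rw [orderOf_eq_one_iff, QuotientGroup.mk'_apply, QuotientGroup.eq_one_iff] at h3
  exact h3

theorem inf_twoPt {g : G} (hg : g ∉ M) : K ⊓ twoPt M g = ⊥ := by
  refine eq_bot_iff.2 fun x hx => mem_bot.2 ?_
  have h1 := (mem_twoPt.1 hx.2).2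
  have h2 := S.mem_of_conj (g := g⁻¹) hx.1 (by rwa [inv_inv])
  rw [inv_inv] at h2
  have h3 := S.ti g⁻¹ (fun e => hg (M.inv_mem_iff.1 e)) x hx.1 (by rwa [inv_inv])
  exact h3

theorem card_twoPt_le {g : G} (hg : g ∉ M) : Nat.card (twoPt M g) ≤ K.relIndex M := by
  have := S.normal
  let f : twoPt M g →* M ⧸ K.subgroupOf M :=
    (QuotientGroup.mk' _).comp (inclusion (inf_le_left : twoPt M g ≤ M))
  refine Nat.card_le_card_of_injective f ((injective_iff_map_eq_one f).2 fun x hx => ?_)
  have h1 : (x : G) ∈ K ⊓ twoPt M g := ⟨(QuotientGroup.eq_one_iff (inclusion inf_le_left x)).1 hx, x.2⟩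
  rw [S.inf_twoPt hg, mem_bot] at h1
  exact Subtype.ext h1

theorem exists_involution : ∃ z ∈ K, orderOf z = 2 := by
  obtain ⟨s, hs, -, -, ho, -, -⟩ := S.two
  exact ⟨s, hs, ho⟩

/-- The involutions of `M` correspond to the cosets of `K` in `M`. -/
theorem card_invol_M : Nat.card {t : G // orderOf t = 2 ∧ t ∈ M} = K.relIndex M := by
  obtain ⟨z, hzK, hz⟩ := S.exists_involution
  symm
  let f : M ⧸ K.subgroupOf M → {t : G // orderOf t = 2 ∧ t ∈ M} :=
    Quotient.lift (fun m : M => ⟨(m : G) * z * (m : G)⁻¹, (Invol.orderOf_conj _ z).trans hz,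
      M.mul_mem (M.mul_mem m.2 (S.K_le hzK)) (M.inv_mem m.2)⟩) fun a b hab => by
        have h1 : (a : G)⁻¹ * b ∈ centralizer ({z} : Set G) := by
          rw [S.cent_eq z hzK hz]
          exact ((QuotientGroup.leftRel_apply (s := K.subgroupOf M)).1 hab : _)
        rw [mem_centralizer_singleton_iff] at h1
        refine Subtype.ext ?_
        show (a : G) * z * (a : G)⁻¹ = b * z * (b : G)⁻¹
        calc (a : G) * z * (a : G)⁻¹ = a * (z * ((a : G)⁻¹ * b)) * (b : G)⁻¹ := by group
          _ = a * ((a : G)⁻¹ * b * z) * (b : G)⁻¹ := by rw [h1]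
          _ = b * z * (b : G)⁻¹ := by group
  refine Nat.card_congr (Equiv.ofBijective f ⟨?_, ?_⟩)
  · intro q r hqr
    induction q using QuotientGroup.induction_on with | _ a => ?_
    induction r using QuotientGroup.induction_on with | _ b => ?_
    have h1 : (a : G) * z * (a : G)⁻¹ = b * z * (b : G)⁻¹ := congrArg Subtype.val hqr
    refine QuotientGroup.eq.2 ?_
    show (a : G)⁻¹ * b ∈ K
    rw [← S.cent_eq z hzK hz, mem_centralizer_singleton_iff]
    calc (a : G)⁻¹ * b * z = (a : G)⁻¹ * (b * z * (b : G)⁻¹) * b := by group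
      _ = z * ((a : G)⁻¹ * b) := by rw [← h1]; group
  · rintro ⟨t, ht, htM⟩
    obtain ⟨g, hg⟩ := isConj_iff.1 (Invol.se_isConj_all S.se hz ht)
    have hgM : g ∈ M := by
      by_contra hgM
      exact S.coe_ne_one hz (S.ti g hgM z hzK (hg ▸ S.invol_mem t htM ht))
    exact ⟨(⟨g, hgM⟩ : M), Subtype.ext hg⟩

theorem card_invol : Nat.card {t : G // orderOf t = 2} = M.index * K.relIndex M := by
  obtain ⟨z, hzK, hz⟩ := S.exists_involution
  have h1 : Nat.card {t : G // orderOf t = 2} = Nat.card {t : G // IsConj z t} :=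
    Nat.card_congr (Equiv.subtypeEquivRight fun t =>
      ⟨fun ht => Invol.se_isConj_all S.se hz ht, fun hc => by
        obtain ⟨g, rfl⟩ := isConj_iff.1 hc
        rw [Invol.orderOf_conj, hz]⟩)
  have h2 := Invol.card_isConj_mul_card_centralizer z
  rw [S.cent_eq z hzK hz, ← K.index_mul_card, ← h1] at h2
  rw [Nat.eq_of_mul_eq_mul_right Nat.card_pos h2, ← relIndex_mul_index S.K_le, mul_comm]

omit S in
/-- The involutions in a coset inject into the inverted elements of the two-point stabiliser. -/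
theorem exists_inj_fibre {g t : G} (ht : orderOf t = 2) (htg : (t : G ⧸ M) = (g : G ⧸ M)) :
    ∃ f : {u : G // orderOf u = 2 ∧ (u : G ⧸ M) = (g : G ⧸ M)} →
      {d : twoPt M g // t * d * t = (d : G)⁻¹}, Function.Injective f := by
  have htm : t * t = 1 := by rw [← pow_two, ← ht, pow_orderOf_eq_one]
  refine ⟨fun u => ⟨⟨t * u.1, ?_⟩, ?_⟩, fun u v huv => Subtype.ext (mul_left_cancel
    (congrArg (fun d : {d : twoPt M g // t * d * t = (d : G)⁻¹} => ((d.1 : twoPt M g) : G)) huv))⟩
  · have hinv : t⁻¹ = t := inv_eq_of_mul_eq_one_right htm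
    have h1 : t⁻¹ * u.1 ∈ M := QuotientGroup.eq.1 (htg.trans u.2.2.symm)
    rw [hinv] at h1
    have h2 : t⁻¹ * g ∈ M := QuotientGroup.eq.1 htg
    have h4 : twoPt M g = twoPt M t := by
      conv_lhs => rw [show g = t * (t⁻¹ * g) by group]
      exact twoPt_mul h2
    rw [h4, mem_twoPt]
    refine ⟨h1, ?_⟩
    rw [hinv, show t * (t * u.1) * t = (t * t) * (u.1 * t) by group, htm, one_mul]
    have h3 := M.inv_mem h1
    rwa [mul_inv_rev, hinv, inv_eq_of_mul_eq_one_right
      (show u.1 * u.1 = 1 from (pow_two u.1).symm.trans (orderOf_dvd_iff_pow_eq_one.1 (dvd_of_eq u.2.1)))] at h3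
  · have hu : u.1 * u.1 = 1 :=
      (pow_two u.1).symm.trans (orderOf_dvd_iff_pow_eq_one.1 (dvd_of_eq u.2.1))
    show t * (t * u.1) * t = (t * u.1)⁻¹
    rw [mul_inv_rev, inv_eq_of_mul_eq_one_right htm, inv_eq_of_mul_eq_one_right hu, ← mul_assoc t,
      htm, one_mul]

theorem card_fibre (g : G) :
    Nat.card {u : G // orderOf u = 2 ∧ (u : G ⧸ M) = (g : G ⧸ M)} = K.relIndex M := by
  classical
  have : Fintype G := Fintype.ofFinite G
  let F : G ⧸ M → ℕ := fun q => Nat.card {u : G // orderOf u = 2 ∧ (u : G ⧸ M) = q}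
  have hle : ∀ q : G ⧸ M, F q ≤ K.relIndex M := by
    intro q
    induction q using QuotientGroup.induction_on with | _ a => ?_
    by_cases ha : a ∈ M
    · refine le_of_eq ((Nat.card_congr (Equiv.subtypeEquivRight fun u => and_congr_right fun _ => ?_)).trans
        S.card_invol_M)
      rw [QuotientGroup.eq]
      exact ⟨fun h => by simpa using M.mul_mem ha (M.inv_mem h), fun h => M.mul_mem (M.inv_mem h) ha⟩
    · rcases isEmpty_or_nonempty {u : G // orderOf u = 2 ∧ (u : G ⧸ M) = (a : G ⧸ M)} with he | ⟨⟨t, ht, hta⟩⟩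
      · exact Nat.card_of_isEmpty.le.trans (Nat.zero_le _)
      obtain ⟨f, hf⟩ := exists_inj_fibre ht hta
      exact ((Nat.card_le_card_of_injective f hf).trans
        (Nat.card_le_card_of_injective _ Subtype.val_injective)).trans (S.card_twoPt_le ha)
  have hsum : ∑ q : G ⧸ M, F q = ∑ _q : G ⧸ M, K.relIndex M := by
    rw [Finset.sum_const, Finset.card_univ, ← Nat.card_eq_fintype_card, smul_eq_mul]
    show ∑ q, F q = M.index * _
    rw [← S.card_invol, ← Nat.card_congr (Equiv.sigmaFiberEquiv (fun u : {t : G // orderOf t = 2} => (u.1 : G ⧸ M))),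
      Nat.card_sigma]
    exact Finset.sum_congr rfl fun q _ => Nat.card_congr
      ((Equiv.subtypeSubtypeEquivSubtypeInter (fun u : G => orderOf u = 2)
        (fun u : G => (u : G ⧸ M) = q))).symm
  exact (Finset.sum_eq_sum_iff_of_le fun q _ => hle q).1 hsum (g : G ⧸ M) (Finset.mem_univ _)

theorem two_le : 2 ≤ K.relIndex M := by
  obtain ⟨s, hs, t, ht, hso, hto, hne⟩ := S.two
  rw [← S.card_invol_M]
  exact Finite.one_lt_card_iff_nontrivial.2
    ⟨⟨s, hso, S.K_le hs⟩, ⟨t, hto, S.K_le ht⟩, fun e => hne (congrArg Subtype.val e)⟩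

/-- The two-point stabiliser of `M` and `gM`. -/
theorem twoPt_spec {g : G} (hg : g ∉ M) : Nat.card (twoPt M g) = K.relIndex M ∧
    ∃ t : G, orderOf t = 2 ∧ (t : G ⧸ M) = (g : G ⧸ M) ∧ ∀ d ∈ twoPt M g, t * d * t = d⁻¹ := by
  have hpos : 0 < Nat.card {u : G // orderOf u = 2 ∧ (u : G ⧸ M) = (g : G ⧸ M)} := by
    rw [S.card_fibre g]; have := S.two_le; omega
  obtain ⟨⟨t, ht, htg⟩⟩ := (Nat.card_pos_iff.1 hpos).1
  obtain ⟨f, hf⟩ := exists_inj_fibre ht htg
  have h1 := Nat.card_le_card_of_injective f hf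
  have h2 : Nat.card {d : twoPt M g // t * (d : G) * t = (d : G)⁻¹} ≤ Nat.card (twoPt M g) :=
    Nat.card_le_card_of_injective _ Subtype.val_injective
  have h3 := S.card_twoPt_le hg
  rw [S.card_fibre g] at h1
  refine ⟨by omega, t, ht, htg, fun d hd => ?_⟩
  obtain ⟨e, he⟩ := ((Subtype.val_injective (p := fun d : twoPt M g => t * (d : G) * t = (d : G)⁻¹)
    ).bijective_of_nat_card_le (by omega)).2 (⟨d, hd⟩ : twoPt M g)
  have h5 : ((e.1 : twoPt M g) : G) = d := congrArg Subtype.val he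
  exact h5 ▸ e.2

theorem sup_twoPt {g : G} (hg : g ∉ M) :
    IsComplement' (K.subgroupOf M) ((twoPt M g).subgroupOf M) := by
  refine isComplement'_of_card_mul_and_disjoint ?_ ?_
  · rw [Nat.card_congr (subgroupOfEquivOfLe (show twoPt M g ≤ M from inf_le_left)).toEquiv,
      (S.twoPt_spec hg).1]
    exact (K.subgroupOf M).card_mul_index
  · rw [disjoint_iff]
    refine eq_bot_iff.2 fun x hx => mem_bot.2 (Subtype.ext ?_)
    have h1 : (x : G) ∈ K ⊓ twoPt M g := ⟨hx.1, hx.2⟩
    rw [S.inf_twoPt hg, mem_bot] at h1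
    exact h1

end Setting

end Cfsg.Agent.TICent
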