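import Cfsg.Agent.TICent.Basic
import Cfsg.Agent.Invol.SEPairs
import Cfsg.Agent.S0205
import Cfsg.Agent.S0215
import Cfsg.Agent.OddLocal.Basic

/-!
# Trivial intersection centralisers without abelian normal subgroups: the local setting
-/

set_option autoImplicit false

namespace Cfsg.Agent.TICent

open Subgroup

variable {G : Type*} [Group G]

/-- The local picture around an involution: `K` is the centraliser of each of its involutions,
`M` is its normaliser. -/
structure Setting (T : Sylow 2 G) (K M : Subgroup G) : Prop where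
  se : Cfsg.IsStronglyEmbedded M
  le_K : (T : Subgroup G) ≤ K
  K_le : K ≤ M
  norm : M ≤ normalizer (K : Set G)
  ti : ∀ g : G, g ∉ M → ∀ x ∈ K, g * x * g⁻¹ ∈ K → x = 1
  cent : ∀ x ∈ K, x ≠ 1 → centralizer ({x} : Set G) ≤ K
  invol_mem : ∀ t ∈ M, orderOf t = 2 → t ∈ K
  cent_eq : ∀ t ∈ K, orderOf t = 2 → centralizer ({t} : Set G) = K
  two : ∃ s ∈ K, ∃ t ∈ K, orderOf s = 2 ∧ orderOf t = 2 ∧ s ≠ t

/-- An element of a finite group is a product of an element of odd order and an element of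
`2`-power order, both powers of it. -/
theorem exists_odd_two_parts [Finite G] (m : G) : ∃ a b : G, a ∈ zpowers m ∧ b ∈ zpowers m ∧
    m = a * b ∧ Odd (orderOf a) ∧ IsPGroup 2 (zpowers b) := by
  obtain ⟨e, k, hk, ho⟩ := Nat.exists_eq_two_pow_mul_odd (orderOf_pos m).ne'
  have hcop : Nat.Coprime (2 ^ e) k := (Nat.coprime_two_left.2 hk).pow_left _
  obtain ⟨u, v, huv⟩ : ∃ u v : ℤ, (2 ^ e : ℕ) * u + (k : ℕ) * v = 1 := by
    refine ⟨Nat.gcdA (2 ^ e) k, Nat.gcdB (2 ^ e) k, ?_⟩
    rw [← Nat.gcd_eq_gcd_ab, hcop, Nat.cast_one]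
  refine ⟨m ^ (((2 ^ e : ℕ) : ℤ) * u), m ^ (((k : ℕ) : ℤ) * v), ⟨_, rfl⟩, ⟨_, rfl⟩, ?_, ?_, ?_⟩
  · rw [← zpow_add, huv, zpow_one]
  · refine hk.of_dvd_nat (orderOf_dvd_of_pow_eq_one ?_)
    rw [← zpow_natCast, ← zpow_mul, show (((2 ^ e : ℕ) : ℤ) * u) * (k : ℤ) = ((orderOf m : ℕ) : ℤ) * u by
      rw [ho]; push_cast; ring, zpow_mul, zpow_natCast, pow_orderOf_eq_one, one_zpow]
  · intro y
    refine ⟨e, Subtype.ext ?_⟩
    obtain ⟨i, hi⟩ := y.2
    rw [SubmonoidClass.coe_pow, ← hi, OneMemClass.coe_one]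
    rw [← zpow_natCast, ← zpow_mul, ← zpow_mul,
      show ((k : ℕ) : ℤ) * v * (i * ((2 ^ e : ℕ) : ℤ)) = ((orderOf m : ℕ) : ℤ) * (v * i) by
        rw [ho]; push_cast; ring, zpow_mul, zpow_natCast, pow_orderOf_eq_one, one_zpow]

variable [Finite G]

theorem exists_setting [Nontrivial G] (h : CentTI G)
    (hno : ∀ A : Subgroup G, A.Normal → IsMulCommutative A → A = ⊥) :
    ∃ (T : Sylow 2 G) (K M : Subgroup G), Setting T K M := by
  have : Fact (Nat.Prime 2) := ⟨Nat.prime_two⟩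
  have hsolv : ∀ N : Subgroup G, N.Normal → Group.IsSolvable N → N = ⊥ := fun N _ _ => by
    by_contra hN
    obtain ⟨A, hAn, hAc, hA⟩ := exists_abelian_normal hN
    exact hA (hno A hAn hAc)
  have heven : 2 ∣ Nat.card G := by
    by_contra hodd
    have := S0205.result (G := G) (Nat.not_even_iff_odd.1 fun e => hodd (even_iff_two_dvd.1 e))
    exact top_ne_bot (hsolv ⊤ inferInstance inferInstance)
  obtain ⟨T⟩ : Nonempty (Sylow 2 G) := inferInstance
  have hT : (T : Subgroup G) ≠ ⊥ := T.ne_bot_of_dvd_card heven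
  obtain ⟨z, hzT, hz, hzc⟩ : ∃ z ∈ (T : Subgroup G), orderOf z = 2 ∧
      ∀ s ∈ (T : Subgroup G), s * z = z * s := by
    have : Nontrivial (T : Subgroup G) := (T : Subgroup G).nontrivial_iff_ne_bot.2 hT
    have := T.2.center_nontrivial
    obtain ⟨w, hw⟩ := exists_prime_orderOf_dvd_card' (G := center (T : Subgroup G)) 2
      ((T.2.to_subgroup _).card_eq_or_dvd.resolve_left Finite.one_lt_card.ne')
    exact ⟨(w : (T : Subgroup G)), SetLike.coe_mem _, by rw [orderOf_coe, orderOf_coe, hw],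
      fun s hs => congrArg Subtype.val (mem_center_iff.1 w.2 ⟨s, hs⟩)⟩
  have hz1 : z ≠ 1 := fun e => by rw [e, orderOf_one] at hz; omega
  set K := centralizer ({z} : Set G) with hK
  have hTK : (T : Subgroup G) ≤ K := fun s hs => mem_centralizer_singleton_iff.2 (hzc s hs)
  have hKnil : Group.IsNilpotent K := h.isNilpotent_centralizer hz1
  have hzp : ∀ t : G, orderOf t = 2 → IsPGroup 2 (zpowers t) := fun t ht =>
    IsPGroup.of_card (n := 1) (by rw [Nat.card_zpowers, ht, pow_one])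
  -- an element moving some nontrivial element of `K` into `K` normalises `T`
  have hKN : normalizer (K : Set G) ≤ normalizer ((T : Subgroup G) : Set G) := by
    intro g hg
    rw [mem_normalizer_iff_conj_image_eq] at hg ⊢
    refine Set.eq_of_subset_of_ncard_le ?_ (Set.ncard_image_of_injective _ (MulAut.conj g).injective).ge
    rintro _ ⟨s, hs, rfl⟩
    refine mem_of_isNilpotent T hKnil hTK (SetLike.mem_coe.1 (hg.subset ⟨s, hTK hs, rfl⟩)) ?_
    intro y
    obtain ⟨i, hi⟩ := y.2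
    obtain ⟨k, hk⟩ := T.2 ⟨s, hs⟩
    refine ⟨k, Subtype.ext ?_⟩
    have hk' : s ^ 2 ^ k = 1 := congrArg Subtype.val hk
    rw [SubmonoidClass.coe_pow, ← hi, OneMemClass.coe_one]
    beta_reduce
    rw [← map_zpow, ← map_pow, ← zpow_natCast, ← zpow_mul, mul_comm i, zpow_mul, zpow_natCast, hk',
      one_zpow, map_one]
  have htiK : ∀ g : G, ∀ x ∈ K, x ≠ 1 → g * x * g⁻¹ ∈ K → g ∈ normalizer ((T : Subgroup G) : Set G) :=
    fun g x hx hx1 hgx => hKN (h.mem_normalizer hx1 hx hgx)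
  set M := normalizer ((T : Subgroup G) : Set G) with hM
  have hMK : M ≤ normalizer (K : Set G) := fun g hg =>
    h.mem_normalizer hz1 (hTK hzT) (hTK ((mem_normalizer_iff.1 hg z).1 hzT))
  have hTM : (T : Subgroup G) ≤ M := le_normalizer
  have hMtop : M ≠ ⊤ := fun e => hT (by
    have := normalizer_eq_top_iff.1 e
    have : Group.IsNilpotent (T : Subgroup G) := T.2.isNilpotent
    exact hsolv _ inferInstance inferInstance)
  let P : Sylow 2 M := T.subtype hTM
  have hmemP : ∀ y : M, y ∈ (P : Subgroup M) ↔ (y : G) ∈ (T : Subgroup G) := fun _ => Iff.rfl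
  have hse : Cfsg.IsStronglyEmbedded M := by
    refine Invol.se_of_normalizers hMtop P ?_ fun X hX hX1 g hg => ?_
    · intro e
      refine hz1 ?_
      have h1 : (⟨z, hTM hzT⟩ : M) ∈ (P : Subgroup M) := (hmemP _).2 hzT
      rw [e, mem_bot] at h1
      exact congrArg Subtype.val h1
    · obtain ⟨u, hu, hu1⟩ := (bot_or_exists_ne_one _).resolve_left hX1
      have h1 : g * u * g⁻¹ ∈ X.map M.subtype := (mem_normalizer_iff.1 hg u).1 ⟨u, hu, rfl⟩
      obtain ⟨u', hu', he⟩ := h1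
      exact htiK g u (hTK ((hmemP u).1 (hX hu))) (fun e => hu1 (Subtype.ext e))
        (he ▸ hTK ((hmemP u').1 (hX hu')))
  -- involutions
  have hconj : ∀ t ∈ K, orderOf t = 2 → centralizer ({t} : Set G) = K := by
    intro t ht ho
    obtain ⟨g, hg⟩ := isConj_iff.1 (Invol.se_isConj_all hse hz ho)
    have hgM : g ∈ M := htiK g z (hTK hzT) hz1 (hg ▸ ht)
    have hgK := hMK hgM
    ext y
    rw [show y ∈ K ↔ g⁻¹ * y * g ∈ K by
      rw [mem_normalizer_iff.1 hgK (g⁻¹ * y * g), show g * (g⁻¹ * y * g) * g⁻¹ = y by group]]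
    rw [hK, mem_centralizer_singleton_iff, mem_centralizer_singleton_iff, ← hg]
    constructor <;> intro e
    · calc g⁻¹ * y * g * z = g⁻¹ * (y * (g * z * g⁻¹)) * g := by group
        _ = z * (g⁻¹ * y * g) := by rw [e]; group
    · calc y * (g * z * g⁻¹) = g * (g⁻¹ * y * g * z) * g⁻¹ := by group
        _ = g * z * g⁻¹ * y := by rw [e]; group
  have hKM : K ≤ M := fun g hg => hKN (le_normalizer hg)
  have htwoM : ∀ t ∈ M, IsPGroup 2 (zpowers t) → t ∈ (T : Subgroup G) := by
    intro t ht htp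
    have h1 := htp.to_sup_of_normal_right' T.2 (zpowers_le.2 ht)
    exact T.3 h1 le_sup_right ▸ mem_sup_left (mem_zpowers t)
  refine ⟨T, K, M, ⟨hse, hTK, hKM, hMK, fun g hg x hx hgx => ?_, fun x hx hx1 => ?_,
    fun t ht ho => hTK (htwoM t ht (hzp t ho)), hconj, ?_⟩⟩
  · by_contra hx1
    exact hg (htiK g x hx hx1 hgx)
  · intro m hm
    have hmx : m * x * m⁻¹ = x := by rw [mem_centralizer_singleton_iff.1 hm, mul_inv_cancel_right]
    have hmM : m ∈ M := htiK m x hx hx1 (by rw [hmx]; exact hx)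
    obtain ⟨a, b, ha, hb, rfl, hao, hbp⟩ := exists_odd_two_parts m
    have hzx : z ∈ centralizer ({x} : Set G) :=
      mem_centralizer_singleton_iff.2 (mem_centralizer_singleton_iff.1 hx).symm
    refine K.mul_mem (mem_centralizer_singleton_iff.2 ?_)
      (hTK (htwoM b (zpowers_le.2 hmM hb) hbp))
    refine (congrArg Subtype.val (OddLocal.commute_of_coprime_orderOf
      (h.isNilpotent_centralizer hx1) (x := ⟨a, zpowers_le.2 hm ha⟩) (y := ⟨z, hzx⟩) ?_).eq :)
    rw [orderOf_mk, orderOf_mk, hz]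
    exact Nat.coprime_two_right.2 hao
  · by_contra hcon
    push Not at hcon
    obtain ⟨N, hNn, hNodd, hN⟩ := S0215.result T z hz hzT fun g hg =>
      (hcon z (hTK hzT) _ (hTK hg) hz ((Invol.orderOf_conj g z).trans hz)).symm
    have := S0205.result (G := N) hNodd
    have hN1 := hsolv N hNn inferInstance
    subst hN1
    have hzZ : z ∈ center G := mem_center_iff.2 fun g => by
      have h1 := mem_bot.1 (hN g)
      rw [mul_inv_eq_one, mul_inv_eq_iff_eq_mul] at h1
      exact h1.symm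
    have h1 := hno (zpowers z) ?_ inferInstance
    · exact hz1 (mem_bot.1 (h1 ▸ mem_zpowers z))
    · refine ⟨fun y hy g => ?_⟩
      obtain ⟨i, rfl⟩ := hy
      rw [show g * z ^ i * g⁻¹ = z ^ i by
        rw [mem_center_iff.1 (zpow_mem hzZ i) g, mul_inv_cancel_right]]
      exact ⟨i, rfl⟩

end Cfsg.Agent.TICent
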